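import Mathlib
import Cfsg.Agent.Walter.LastCase_mg_m3
import Cfsg.Agent.CpAut.Base
import Cfsg.Agent.Walter.PSLFacts
import Cfsg.Agent.ClassicalGeometry.PSL2Solvable
import Cfsg.Agent.S0542
import Cfsg.Agent.LieRecognition.ReeFinal
import Cfsg.Agent.S1073
import Cfsg.Agent.S1152
import Cfsg.Agent.S1155
import Cfsg.Agent.S1157
import Cfsg.Agent.FastGrp
import Cfsg.Agent.Prune
set_option linter.all false

section
prune_inst 0x7f00000000000000000000000000000000000000000000000000000000000000000000000000000000000000000000000000000000000000000000000000000000000000000000000000000000000000003fffffffffffffffffffffffffffbeffbdffffffff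

-- part: CpAutRee/Abs
section
set_option linter.all false
open scoped Cfsg.Agent.FastGrp

/-!
# Automorphisms of order 3 of groups of Janko-Ree type: abstract part
-/

set_option autoImplicit false

namespace Cfsg.Agent.CpAutRee.Abs

open Subgroup Cfsg
open Cfsg.Agent.Walter Cfsg.Agent.Walter.Types
open Cfsg.Agent.LThree (Comps)
open scoped Pointwise

/-! ### Restriction to the centralizer of an involution -/

section Inv

variable {K : Type*} [Group K]

/-- the restriction of an automorphism fixing `s` to the centralizer of `s` -/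
def res (x : MulAut K) {s : K} (hs : x s = s) : MulAut ↥(centralizer ({s} : Set K)) where
  toFun d := ⟨x d, by
    have := mem_centralizer_singleton_iff.1 d.2
    rw [mem_centralizer_singleton_iff]
    calc x d * s = x d * x s := by rw [hs]
      _ = x s * x d := by rw [← map_mul, this, map_mul]
      _ = s * x d := by rw [hs]⟩
  invFun d := ⟨x.symm d, by
    have := mem_centralizer_singleton_iff.1 d.2
    have hs' : x.symm s = s := by rw [MulEquiv.symm_apply_eq, hs]
    rw [mem_centralizer_singleton_iff]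
    calc x.symm d * s = x.symm d * x.symm s := by rw [hs']
      _ = x.symm s * x.symm d := by rw [← map_mul, this, map_mul]
      _ = s * x.symm d := by rw [hs']⟩
  left_inv d := Subtype.ext (x.symm_apply_apply d)
  right_inv d := Subtype.ext (x.apply_symm_apply d)
  map_mul' a b := Subtype.ext (map_mul x (a : K) b)

theorem coe_res (x : MulAut K) {s : K} (hs : x s = s) (d : ↥(centralizer ({s} : Set K))) :
    ((res x hs d : ↥(centralizer ({s} : Set K))) : K) = x d := rfl

end Inv

/-! ### Automorphisms of `Z₂ × P`, `P` simple non-abelian -/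

section Prod

variable {P : Type*} [Group P] [IsSimpleGroup P]

theorem hom_two (hna : ∃ a b : P, a * b ≠ b * a) (f : P →* Multiplicative (ZMod 2)) (u : P) : f u = 1 := by
  rcases (inferInstance : f.ker.Normal).eq_bot_or_eq_top with h | h
  · exfalso
    obtain ⟨a, b, hab⟩ := hna
    apply hab
    have hf : Function.Injective f := (MonoidHom.ker_eq_bot_iff f).1 h
    apply hf
    rw [map_mul, map_mul, mul_comm]
  · have : u ∈ f.ker := by rw [h]; exact mem_top u
    exact this

/-- the first coordinate of the image of `(1, u)` -/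
theorem fst_eq (hna : ∃ a b : P, a * b ≠ b * a) (β : MulAut (Multiplicative (ZMod 2) × P)) (u : P) :
    (β (1, u)).1 = 1 :=
  hom_two hna (((MonoidHom.fst _ _).comp β.toMonoidHom).comp (MonoidHom.inr (Multiplicative (ZMod 2)) P)) u

/-- the automorphism of `P` induced by an automorphism of `Z₂ × P` -/
noncomputable def ind [Finite P] (hna : ∃ a b : P, a * b ≠ b * a) (β : MulAut (Multiplicative (ZMod 2) × P)) :
    MulAut P :=
  MulEquiv.ofBijective
    (((MonoidHom.snd _ _).comp β.toMonoidHom).comp (MonoidHom.inr (Multiplicative (ZMod 2)) P))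
    (Finite.injective_iff_bijective.1 (by
      rw [← MonoidHom.ker_eq_bot_iff, eq_bot_iff]
      intro u hu
      have h1 : (β (1, u)).2 = 1 := hu
      have h2 : β (1, u) = 1 := Prod.ext (fst_eq hna β u) h1
      have h3 : ((1, u) : Multiplicative (ZMod 2) × P) = 1 := by
        rw [← map_one β] at h2
        exact β.injective h2
      exact congrArg Prod.snd h3))

theorem apply_one [Finite P] (hna : ∃ a b : P, a * b ≠ b * a) (β : MulAut (Multiplicative (ZMod 2) × P)) (u : P) :
    β (1, u) = (1, ind hna β u) := Prod.ext (fst_eq hna β u) rfl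

theorem ind_pow [Finite P] (hna : ∃ a b : P, a * b ≠ b * a) {β : MulAut (Multiplicative (ZMod 2) × P)}
    (hβ : β ^ 3 = 1) : ind hna β ^ 3 = 1 := by
  ext u
  have h1 : (β ^ 3) (1, u) = (1, u) := by rw [hβ]; rfl
  rw [pow_three, MulAut.mul_apply, MulAut.mul_apply, apply_one hna, apply_one hna, apply_one hna] at h1
  rw [pow_three, MulAut.mul_apply, MulAut.mul_apply]
  exact congrArg Prod.snd h1

/-- the central element -/
theorem exists_z {z : Multiplicative (ZMod 2)} (hz : z ≠ 1) (y : Multiplicative (ZMod 2)) : y = 1 ∨ y = z := by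
  revert z y
  decide

end Prod

/-! ### The dichotomy -/

section Dich

variable {K : Type*} [Group K] [Finite K]

theorem orderOf_odd_of_pow {G : Type*} [Group G] {x : G} (hx : x ^ 3 = 1) : Odd (orderOf x) := by
  have h := orderOf_dvd_of_pow_eq_one hx
  rcases (Nat.dvd_prime Nat.prime_three).1 h with h1 | h1
  · rw [h1]; exact odd_one
  · rw [h1]; decide

/-- three independent commuting involutions in `C` -/
theorem eight_dvd (C : Subgroup K) {s a b : K} (hs : s ∈ C) (ha : a ∈ C) (hb : b ∈ C)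
    (hs2 : s * s = 1) (ha2 : a * a = 1) (hb2 : b * b = 1) (hsa : s * a = a * s) (hsb : s * b = b * s)
    (hab : a * b = b * a) (hnd : [1, s, a, b, a * b].Nodup) : 8 ∣ Nat.card C := by
  classical
  have h2 : Fact (Nat.Prime 2) := ⟨Nat.prime_two⟩
  let T : Subgroup K := _root_.Subgroup.closure {s, a, b}
  have hTC : T ≤ C := by
    rw [closure_le]
    rintro y (rfl | rfl | rfl)
    · exact hs
    · exact ha
    · exact hb
  have hc1 : ∀ y ∈ T, y * s = s * y := by
    intro y hy
    have : T ≤ centralizer ({s} : Set K) := by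
      rw [closure_le]
      rintro y (rfl | rfl | rfl)
      · exact mem_centralizer_singleton_iff.2 rfl
      · exact mem_centralizer_singleton_iff.2 hsa.symm
      · exact mem_centralizer_singleton_iff.2 hsb.symm
    exact mem_centralizer_singleton_iff.1 (this hy)
  have hc2 : ∀ y ∈ T, y * a = a * y := by
    intro y hy
    have : T ≤ centralizer ({a} : Set K) := by
      rw [closure_le]
      rintro y (rfl | rfl | rfl)
      · exact mem_centralizer_singleton_iff.2 hsa
      · exact mem_centralizer_singleton_iff.2 rfl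
      · exact mem_centralizer_singleton_iff.2 hab.symm
    exact mem_centralizer_singleton_iff.1 (this hy)
  have hc3 : ∀ y ∈ T, y * b = b * y := by
    intro y hy
    have : T ≤ centralizer ({b} : Set K) := by
      rw [closure_le]
      rintro y (rfl | rfl | rfl)
      · exact mem_centralizer_singleton_iff.2 hsb
      · exact mem_centralizer_singleton_iff.2 hab
      · exact mem_centralizer_singleton_iff.2 rfl
    exact mem_centralizer_singleton_iff.1 (this hy)
  have hcomm : ∀ y ∈ T, ∀ w ∈ T, w * y = y * w := by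
    intro y hy w hw
    have : T ≤ centralizer ({y} : Set K) := by
      rw [closure_le]
      rintro w (rfl | rfl | rfl)
      · exact mem_centralizer_singleton_iff.2 (hc1 y hy).symm
      · exact mem_centralizer_singleton_iff.2 (hc2 y hy).symm
      · exact mem_centralizer_singleton_iff.2 (hc3 y hy).symm
    exact mem_centralizer_singleton_iff.1 (this hw)
  have hsq : ∀ y ∈ T, y * y = 1 := by
    intro y hy
    induction hy using closure_induction with
    | mem y hy =>
      rcases hy with rfl | rfl | rfl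
      · exact hs2
      · exact ha2
      · exact hb2
    | one => exact one_mul 1
    | mul y w hy hw h1 h3 =>
      have h4 := hcomm y hy w hw
      calc y * w * (y * w) = y * (w * y) * w := by group
        _ = (y * y) * (w * w) := by rw [h4]; group
        _ = 1 := by rw [h1, h3, one_mul]
    | inv y _ h1 => rw [← mul_inv_rev, h1, inv_one]
  have hp : IsPGroup 2 T := fun y => ⟨1, Subtype.ext (by
    rw [pow_one, sq]
    exact hsq y y.2)⟩
  obtain ⟨n, hn⟩ := IsPGroup.iff_card.1 hp
  have h5 : 5 ≤ Nat.card T := by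
    have hsT : s ∈ T := _root_.Subgroup.subset_closure (by simp)
    have haT : a ∈ T := _root_.Subgroup.subset_closure (by simp)
    have hbT : b ∈ T := _root_.Subgroup.subset_closure (by simp)
    let f : Fin 5 → T := ![1, ⟨s, hsT⟩, ⟨a, haT⟩, ⟨b, hbT⟩, ⟨a * b, mul_mem haT hbT⟩]
    have hf : Function.Injective f := by
      have h6 : Function.Injective (fun i => ((f i : T) : K)) := by
        have h7 := List.nodup_iff_injective_get.1 hnd
        intro i j hij
        have h8 : ∀ i : Fin 5, ((f i : T) : K) = [1, s, a, b, a * b].get i := by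
          intro i
          fin_cases i <;> rfl
        simp only [h8] at hij
        exact h7 hij
      exact fun i j h => h6 (congrArg Subtype.val h)
    have := Nat.card_le_card_of_injective f hf
    rwa [Nat.card_eq_fintype_card, Fintype.card_fin] at this
  have h3 : 3 ≤ n := by
    by_contra hcon
    have : 2 ^ n ≤ 2 ^ 2 := Nat.pow_le_pow_right (by norm_num) (by omega)
    omega
  have h8 : 2 ^ 3 ∣ Nat.card T := by
    rw [hn]
    exact pow_dvd_pow 2 h3
  exact (show (8 : ℕ) ∣ Nat.card T from h8).trans (card_dvd_of_le hTC)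

theorem dich [IsSimpleGroup K] (hJ : IsJR K) (hB : AutFacts.Bender K) (hna : ∃ a b : K, a * b ≠ b * a)
    (x : MulAut K) (hx : x ^ 3 = 1) {s : K} (hs2 : orderOf s = 2) (hxs : x s = s) :
    (∃ g : K, x = MulAut.conj g) ∨ 8 ∣ Nat.card ↥(fixedSubgroup x) := by
  have h2 : Fact (Nat.Prime 2) := ⟨Nat.prime_two⟩
  obtain ⟨F, i1, i2, h8, h5, hC⟩ := hJ.2
  obtain ⟨e⟩ := hC s hs2
  have hs1 : s ≠ 1 := by
    rintro rfl
    rw [orderOf_one] at hs2
    omega
  have hss : s * s = 1 := by rw [← sq, ← hs2, pow_orderOf_eq_one]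
  have hodd : Odd (Fintype.card F) := by rw [Nat.odd_iff]; omega
  have hF2 : (2 : F) ≠ 0 := by
    intro h
    have hch : CharP F 2 := by
      have := CharTwo.of_one_ne_zero_of_two_eq_zero (R := F) one_ne_zero h
      exact this
    have h3 : 2 ∣ Fintype.card F := by
      obtain ⟨n, -, h4⟩ := FiniteField.card F 2
      rw [h4]
      exact dvd_pow_self 2 n.2.ne'
    rw [Nat.odd_iff] at hodd
    omega
  have hPs : IsSimpleGroup (Matrix.ProjectiveSpecialLinearGroup (Fin 2) F) :=
    Matrix.ProjectiveSpecialLinearGroup.rank_two_simple (by rw [Nat.card_eq_fintype_card]; omega)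
  have hPna : ∃ a b : Matrix.ProjectiveSpecialLinearGroup (Fin 2) F, a * b ≠ b * a := by
    by_contra hcon
    push Not at hcon
    exact Cfsg.Agent.ClassicalGeometry.PSL2Solvable.not_isSolvable_psl F (by omega)
      (Group.isSolvable_of_comm hcon)
  let D := centralizer ({s} : Set K)
  let s' : D := ⟨s, mem_centralizer_singleton_iff.2 rfl⟩
  let β : MulAut (Multiplicative (ZMod 2) × Matrix.ProjectiveSpecialLinearGroup (Fin 2) F) :=
    MulAut.congr e (res x hxs)
  have hβe : ∀ d : D, β (e d) = e (res x hxs d) := by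
    intro d
    change e (res x hxs (e.symm (e d))) = _
    rw [e.symm_apply_apply]
  have hres3 : res x hxs ^ 3 = 1 := by
    ext d
    rw [pow_three, MulAut.mul_apply, MulAut.mul_apply, coe_res, coe_res, coe_res]
    have := congrArg (fun y : MulAut K => y d) hx
    rw [pow_three] at this
    exact this
  have hβ3 : β ^ 3 = 1 := by
    change (MulAut.congr e (res x hxs)) ^ 3 = 1
    rw [← map_pow, hres3, map_one]
  have hs'c : ∀ d : D, s' * d = d * s' := by
    intro d
    exact Subtype.ext (mem_centralizer_singleton_iff.1 d.2).symm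
  -- `e s' = (z, 1)`
  have hes2 : (e s').2 = 1 := by
    have h3 : (e s').2 ∈ center (Matrix.ProjectiveSpecialLinearGroup (Fin 2) F) := by
      rw [mem_center_iff]
      intro u
      have h4 := congrArg e (hs'c (e.symm (1, u)))
      rw [map_mul, map_mul, e.apply_symm_apply] at h4
      exact (congrArg Prod.snd h4).symm
    rcases (inferInstance : (center (Matrix.ProjectiveSpecialLinearGroup (Fin 2) F)).Normal).eq_bot_or_eq_top with h4 | h4
    · rw [h4] at h3
      exact h3
    · exfalso
      obtain ⟨a, b, hab⟩ := hPna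
      exact hab (mem_center_iff.1 (by rw [h4]; exact mem_top b) a)
  have hz : (e s').1 ≠ 1 := by
    intro h3
    have h4 : e s' = 1 := Prod.ext h3 hes2
    rw [← map_one e] at h4
    exact hs1 (congrArg Subtype.val (e.injective h4))
  have hes : e s' = ((e s').1, 1) := Prod.ext rfl hes2
  have hβs : β ((e s').1, 1) = ((e s').1, 1) := by
    rw [← hes, hβe]
    congr 1
    exact Subtype.ext hxs
  have hα3 := ind_pow hPna hβ3
  rcases PslThree.dichotomy hF2 hα3 with ⟨g, hg⟩ | ⟨u, v, hu1, hv1, huv, hu2, hv2, hc, hfu, hfv⟩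
  · left
    let y : D := e.symm (1, g)
    have hy : e y = (1, g) := e.apply_symm_apply _
    have hconj : ∀ d : D, x (d : K) = y * d * (y : K)⁻¹ := by
      intro d
      have h3 : e (res x hxs d) = e (y * d * y⁻¹) := by
        rw [← hβe, map_mul, map_mul, map_inv, hy]
        have h4 : e d = ((e d).1, 1) * (1, (e d).2) := by
          rw [Prod.mk_mul_mk, mul_one, one_mul]
        have h5 : β ((e d).1, 1) = ((e d).1, 1) := by
          rcases exists_z hz (e d).1 with h6 | h6
          · rw [h6]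
            exact map_one β
          · rw [h6]
            exact hβs
        rw [h4, map_mul, h5, apply_one hPna, hg, MulAut.conj_apply]
        ext
        · simp only [_root_.Prod.mk_mul_mk, _root_.mul_one, _root_.one_mul, _root_.Prod.mk.eta, _root_.Prod.inv_mk, _root_.inv_one, _root_.Prod.fst_mul]
        · simp only [_root_.Prod.mk_mul_mk, _root_.mul_one, _root_.one_mul, _root_.Prod.mk.eta, _root_.Prod.inv_mk, _root_.inv_one, _root_.Prod.snd_mul]
      exact congrArg Subtype.val (e.injective h3)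
    have hxy : x (y : K) = y := by rw [hconj]; group
    have hg3 : g ^ 3 = 1 := by
      rw [hg, ← map_pow] at hα3
      have h3 : g ^ 3 ∈ center (Matrix.ProjectiveSpecialLinearGroup (Fin 2) F) := by
        rw [mem_center_iff]
        intro w
        have h4 : MulAut.conj (g ^ 3) w = w := by rw [hα3]; rfl
        rw [MulAut.conj_apply, mul_inv_eq_iff_eq_mul] at h4
        exact h4.symm
      rcases (inferInstance : (center (Matrix.ProjectiveSpecialLinearGroup (Fin 2) F)).Normal).eq_bot_or_eq_top with h4 | h4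
      · rw [h4] at h3
        exact h3
      · exfalso
        obtain ⟨a, b, hab⟩ := hPna
        exact hab (mem_center_iff.1 (by rw [h4]; exact mem_top b) a)
    have hy3 : (y : K) ^ 3 = 1 := by
      have h3 : e (y ^ 3) = 1 := by
        rw [map_pow, hy, Prod.pow_mk, hg3, one_pow]
        rfl
      rw [← map_one e] at h3
      exact congrArg Subtype.val (e.injective h3)
    -- `φ` centralizes `C(s)`
    let φ : MulAut K := (MulAut.conj (y : K))⁻¹ * x
    have hφ : ∀ d ∈ D, φ d = d := by
      intro d hd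
      change (MulAut.conj (y : K))⁻¹ (x d) = d
      rw [hconj ⟨d, hd⟩, ← map_inv, MulAut.conj_apply]
      group
    have hcm : x * MulAut.conj (y : K) = MulAut.conj (y : K) * x := by
      ext d
      rw [MulAut.mul_apply, MulAut.mul_apply, MulAut.conj_apply, MulAut.conj_apply, map_mul, map_mul, map_inv, hxy]
    have hφ3 : φ ^ 3 = 1 := by
      have h3 : Commute (MulAut.conj (y : K))⁻¹ x := (Commute.inv_left (show Commute (MulAut.conj (y : K)) x from hcm.symm))
      change ((MulAut.conj (y : K))⁻¹ * x) ^ 3 = 1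
      rw [h3.mul_pow, hx, inv_pow, ← map_pow, hy3, map_one, inv_one, mul_one]
    obtain ⟨S, hS⟩ : ∃ S : Sylow 2 K, s ∈ (S : Subgroup K) := by
      have h3 : IsPGroup 2 (zpowers s) := IsPGroup.of_card (n := 1) (by rw [Nat.card_zpowers, hs2, pow_one])
      obtain ⟨S, hS⟩ := h3.exists_le_sylow
      exact ⟨S, hS (mem_zpowers s)⟩
    obtain ⟨f1, f2, f3⟩ := PSLFacts.IsJR.facts hJ S
    have h3 := AutFacts.aut_eq_one hB hna S f1 (by rw [f2]; norm_num) f3 hS hs1 φ (orderOf_odd_of_pow hφ3) hφ
    refine ⟨y, ?_⟩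
    have h4 : (MulAut.conj (y : K))⁻¹ * x = 1 := h3
    exact (inv_mul_eq_one.1 h4).symm
  · right
    let a : D := e.symm (1, u)
    let b : D := e.symm (1, v)
    have hea : e a = (1, u) := e.apply_symm_apply _
    have heb : e b = (1, v) := e.apply_symm_apply _
    have hfix : ∀ {w : Matrix.ProjectiveSpecialLinearGroup (Fin 2) F} {d : D}, e d = (1, w) →
        ind hPna β w = w → x (d : K) = d := by
      intro w d hd hw
      have h3 : e (res x hxs d) = e d := by
        rw [← hβe, hd, apply_one hPna, hw]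
      exact congrArg Subtype.val (e.injective h3)
    have hmul : ∀ {w : Matrix.ProjectiveSpecialLinearGroup (Fin 2) F} {d : D}, e d = (1, w) → w * w = 1 →
        (d : K) * d = 1 := by
      intro w d hd hw
      have h3 : e (d * d) = 1 := by
        rw [map_mul, hd, Prod.mk_mul_mk, hw, one_mul]
        rfl
      rw [← map_one e] at h3
      exact congrArg Subtype.val (e.injective h3)
    have hab : (a : K) * b = b * a := by
      have h3 : e (a * b) = e (b * a) := by
        rw [map_mul, map_mul, hea, heb, Prod.mk_mul_mk, Prod.mk_mul_mk, hc]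
      exact congrArg Subtype.val (e.injective h3)
    refine eight_dvd (fixedSubgroup x) (s := s) (a := a) (b := b) hxs (hfix hea hfu) (hfix heb hfv) hss
      (hmul hea hu2) (hmul heb hv2) (mem_centralizer_singleton_iff.1 a.2).symm
      (mem_centralizer_singleton_iff.1 b.2).symm hab ?_
    have hinj : Function.Injective (fun d : D => (d : K)) := Subtype.val_injective
    have h3 : [(1 : K), s, a, b, a * b] = ([1, s', a, b, a * b] : List D).map (fun d : D => (d : K)) := rfl
    rw [h3, List.nodup_map_iff hinj]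
    rw [← List.nodup_map_iff e.injective]
    have h4 : ([1, s', a, b, a * b] : List D).map e =
        [1, ((e s').1, 1), (1, u), (1, v), (1, u * v)] := by
      rw [List.map_cons, List.map_cons, List.map_cons, List.map_cons, List.map_cons, List.map_nil, map_one, map_mul,
        hea, heb, Prod.mk_mul_mk, one_mul, ← hes]
    rw [h4]
    have huv1 : u * v ≠ 1 := by
      intro h
      apply huv
      calc u = u * (v * v) := by rw [hv2, mul_one]
        _ = v := by rw [← mul_assoc, h, one_mul]
    have huvu : u * v ≠ u := fun h => hv1 (mul_eq_left.1 h)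
    have huvv : u * v ≠ v := fun h => hu1 (mul_eq_right.1 h)
    simp only [List.nodup_cons, List.mem_cons, List.not_mem_nil, or_false, Prod.mk.injEq, not_or, not_and,
      List.nodup_nil, and_true, Prod.one_eq_mk, true_and, not_false_eq_true]
    refine ⟨⟨fun h => absurd h.symm hz, hu1.symm, hv1.symm, huv1.symm⟩, ⟨fun h => absurd h hz, fun h => absurd h hz,
      fun h => absurd h hz⟩, ⟨huv, huvu.symm⟩, huvv.symm⟩

end Dich

/-! ### A Sylow 2-subgroup inside a subgroup of order divisible by 8 -/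

theorem exists_sylow_le {K : Type*} [Group K] [Finite K] {H : Subgroup K} (h : 8 ∣ Nat.card H)
    (hcard : ∀ S : Sylow 2 K, Nat.card (S : Subgroup K) = 8) : ∃ S : Sylow 2 K, (S : Subgroup K) ≤ H := by
  have h2 : Fact (Nat.Prime 2) := ⟨Nat.prime_two⟩
  obtain ⟨Q, hQ⟩ := Sylow.exists_subgroup_card_pow_prime (G := H) 2 (n := 3) h
  have h1 : IsPGroup 2 (Q.map H.subtype) := (IsPGroup.of_card (n := 3) hQ).map _
  obtain ⟨S, hS⟩ := h1.exists_le_sylow
  have h3 : Nat.card ↥(Q.map H.subtype) = 8 := by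
    rw [card_map_of_injective H.subtype_injective, hQ]
    norm_num
  have h4 : Q.map H.subtype = S := by
    apply eq_of_le_of_card_ge hS
    rw [hcard S, h3]
  refine ⟨S, ?_⟩
  rw [← h4]
  exact map_subtype_le Q

/-! ### The inner case: `C(g)`, `g` of order `p`, trivial intersection Sylow `p`-subgroups -/

theorem comps_of_normal_sylow {H : Type*} [Group H] [Finite H] {p : ℕ} [Fact p.Prime] (R : Sylow p H)
    (hR : (R : Subgroup H).Normal) : Comps p H := by
  intro L hL
  exfalso
  have hpp : p.Prime := Fact.out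
  have hO := Lib.Cores.pPrimeCore_normal (G := H) p
  have h1 : p ∣ Nat.card L := CpAut.dvd_card_comp hpp L hL
  let T : Sylow p (H ⧸ pPrimeCore p H) := R.mapSurjective (QuotientGroup.mk'_surjective (pPrimeCore p H))
  have hT : (T : Subgroup (H ⧸ pPrimeCore p H)).Normal := hR.map _ (QuotientGroup.mk'_surjective (pPrimeCore p H))
  obtain ⟨P, hP⟩ := Cfsg.Agent.S0542.result p L hL.1 T
  have h2 : ⁅L, (T : Subgroup (H ⧸ pPrimeCore p H))⁆ = ⊥ := by
    refine SignalizersComponents.Components.component_commutator_solvable hL ?_ ?_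
    · rw [normalizer_eq_top_iff.2 hT]
      exact le_top
    · have := T.2.isNilpotent
      infer_instance
  rw [commutator_eq_bot_iff_le_centralizer] at h2
  refine SignalizersComponents.CompBasic.sylow_not_le_center_of_perfect hL.2.1 p h1 P ?_
  rw [hP]
  intro y hy
  rw [mem_center_iff]
  intro w
  have h3 := (mem_centralizer_iff.1 (h2 w.2)) (y : H ⧸ pPrimeCore p H) hy
  exact Subtype.ext h3.symm

theorem comps_centralizer_of_ti {G : Type*} [Group G] [Finite G] {p : ℕ} [Fact p.Prime]
    (hTI : ∀ P Q : Sylow p G, P ≠ Q → (P : Subgroup G) ⊓ Q = ⊥) {g : G} (hg : orderOf g = p) :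
    Comps p ↥(centralizer ({g} : Set G)) := by
  have hpp : p.Prime := Fact.out
  have h1 : IsPGroup p (zpowers g) := IsPGroup.of_card (n := 1) (by rw [Nat.card_zpowers, hg, pow_one])
  obtain ⟨P, hP⟩ := h1.exists_le_sylow
  have hgP : g ∈ (P : Subgroup G) := hP (mem_zpowers g)
  have hg1 : g ≠ 1 := by
    rintro rfl
    rw [orderOf_one] at hg
    exact hpp.one_lt.ne hg
  set H := centralizer ({g} : Set G) with hH
  have hHN : H ≤ normalizer ((P : Subgroup G) : Set G) := by
    intro h hh
    refine Sylow.smul_eq_iff_mem_normalizer.1 ?_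
    by_contra hne
    have h2 := hTI _ _ hne
    apply hg1
    rw [← mem_bot, ← h2]
    refine ⟨?_, hgP⟩
    change g ∈ MulAut.conj h • (P : Subgroup G)
    rw [mem_pointwise_smul_iff_inv_smul_mem]
    have h3 : (MulAut.conj h)⁻¹ • g = g := by
      rw [← map_inv, MulAut.smul_def, MulAut.conj_apply, inv_inv]
      have h4 := mem_centralizer_singleton_iff.1 hh
      rw [mul_assoc, ← h4, inv_mul_cancel_left]
    rw [h3]
    exact hgP
  let R : Sylow p H := default
  have hRQ : (R : Subgroup H) = (P : Subgroup G).subgroupOf H := by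
    have h2 : IsPGroup p ((R : Subgroup H).map H.subtype) := R.2.map _
    have h3 : (R : Subgroup H).map H.subtype ≤ (P : Subgroup G) := by
      have h4 := h2.inf_normalizer_sylow P
      have h5 : (R : Subgroup H).map H.subtype ≤ normalizer ((P : Subgroup G) : Set G) :=
        (map_subtype_le _).trans hHN
      exact inf_eq_left.1 (h4.symm.trans (inf_eq_left.2 h5))
    have h4 : (R : Subgroup H) ≤ (P : Subgroup G).subgroupOf H := by
      rwa [subgroupOf, ← map_le_iff_le_comap]
    exact (R.3 (P.2.comap_subtype) h4).symm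
  refine comps_of_normal_sylow R ?_
  rw [hRQ]
  exact normal_subgroupOf_of_le_normalizer hHN

/-! ### Components -/

/-- a subgroup of order 2 is centralized by its normalizer -/
theorem normalizer_le_centralizer_of_card_two {G : Type*} [Group G] (A : Subgroup G) (hA : Nat.card A ≤ 2)
    [Finite A] : normalizer (A : Set G) ≤ centralizer (A : Set G) := by
  intro n hn
  rw [mem_centralizer_iff]
  intro a ha
  by_cases ha1 : a = 1
  · rw [ha1, one_mul, mul_one]
  have h1 : n * a * n⁻¹ ∈ A := (mem_normalizer_iff.1 hn a).1 ha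
  by_contra hne
  have h2 : n * a * n⁻¹ ≠ a := by
    intro h
    rw [mul_inv_eq_iff_eq_mul] at h
    exact hne h.symm
  have h3 : n * a * n⁻¹ ≠ 1 := by
    intro h
    apply ha1
    rw [mul_inv_eq_one] at h
    exact mul_eq_left.1 h
  let f : Fin 3 → A := ![1, ⟨a, ha⟩, ⟨n * a * n⁻¹, h1⟩]
  have hf : Function.Injective f := by
    have h4 : Function.Injective (fun i => ((f i : A) : G)) := by
      intro i j hij
      fin_cases i <;> fin_cases j
      · rfl
      · exact absurd hij.symm ha1
      · exact absurd hij.symm h3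
      · exact absurd hij ha1
      · rfl
      · exact absurd hij.symm h2
      · exact absurd hij h3
      · exact absurd hij h2
      · rfl
    exact fun i j h => h4 (congrArg Subtype.val h)
  have := Nat.card_le_card_of_injective f hf
  rw [Nat.card_eq_fintype_card, Fintype.card_fin] at this
  omega

/-- the quotient of a quasisimple group by its centre is not abelian -/
theorem quot_noncomm {L : Type*} [Group L] (h : IsQuasisimple L) : ∃ a b : L ⧸ center L, a * b ≠ b * a := by
  by_contra hcon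
  push Not at hcon
  have h1 : commutator L ≤ center L := by
    rw [commutator_def, commutator_le]
    intro a _ b _
    rw [← QuotientGroup.eq_one_iff]
    have h2 := hcon (a : L ⧸ center L) (b : L ⧸ center L)
    rw [commutatorElement_def, QuotientGroup.mk_mul, QuotientGroup.mk_mul, QuotientGroup.mk_mul, h2,
      QuotientGroup.mk_inv, QuotientGroup.mk_inv]
    group
  have h3 := h.1.commutator_eq_top
  rw [h3, top_le_iff] at h1
  have h4 := h.2
  have h5 : Subsingleton (L ⧸ center L) := by
    rw [h1]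
    exact QuotientGroup.subsingleton_quotient_top
  exact not_subsingleton _ h5

/-! ### The main component argument -/

section Main

/-- Walter's theorem, the recognition of the Ree groups, and orders of two sporadic groups -/
structure Inputs : Prop where
  ft : BalLocal.OddSolvable.{0}
  bender : BalLocal.BenderThm.{0}
  walter : ∀ (G : Type) [Group G] [Finite G], IsSimpleGroup G → (∃ a b : G, a * b ≠ b * a) →
    ∀ S : Sylow 2 G, (∀ a ∈ (S : Subgroup G), ∀ b ∈ (S : Subgroup G), a * b = b * a) → _root_.Cfsg.Agent.Walter.Types.WType G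
  jr : ∀ (G : Type) [Group G] [Finite G] [IsSimpleGroup G], (∃ a b : G, a * b ≠ b * a) → IsJR G →
    Cfsg.Lie.IsoRee G ∨ Cfsg.Spor.IsoJ1 G
  j1 : 5 ∣ Nat.card Spor.J1
  on : 5 ∣ Nat.card Spor.ON

theorem four_le_sylow (hft : BalLocal.OddSolvable.{0}) {L : Type} [Group L] [Finite L] (hL : IsQuasisimple L)
    (P : Sylow 2 L) (hPc : ∀ a ∈ (P : Subgroup L), ∀ b ∈ (P : Subgroup L), a * b = b * a) :
    4 ≤ Nat.card (P : Subgroup L) := by
  have h2 : Fact (Nat.Prime 2) := ⟨Nat.prime_two⟩
  have h2L : 2 ∣ Nat.card L := by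
    by_contra h
    exact SignalizersComponents.Components.quasisimple_not_isSolvable hL (hft L h)
  by_contra hlt
  obtain ⟨n, hn⟩ := IsPGroup.iff_card.1 P.2
  have hn1 : n ≤ 1 := by
    by_contra hcon
    have : 2 ^ 2 ≤ 2 ^ n := Nat.pow_le_pow_right (by norm_num) (by omega)
    omega
  have hle : Nat.card (P : Subgroup L) ≤ 2 := by
    rw [hn]
    calc 2 ^ n ≤ 2 ^ 1 := Nat.pow_le_pow_right (by norm_num) hn1
      _ = 2 := by norm_num
  let Q : Sylow 2 (L ⧸ center L) := P.mapSurjective (QuotientGroup.mk'_surjective (center L))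
  have hQ : (Q : Subgroup (L ⧸ center L)) = (P : Subgroup L).map (QuotientGroup.mk' (center L)) := rfl
  have hQle : Nat.card (Q : Subgroup (L ⧸ center L)) ≤ 2 := by
    refine le_trans (Nat.le_of_dvd Nat.card_pos ?_) hle
    rw [hQ]
    exact card_map_dvd _ _
  have hs := hL.2
  have hQ1 : (Q : Subgroup (L ⧸ center L)) ≠ ⊥ := by
    intro h
    rw [hQ, Subgroup.map_eq_bot_iff, QuotientGroup.ker_mk'] at h
    exact SignalizersComponents.CompBasic.sylow_not_le_center_of_perfect hL.1 2 h2L P h
  refine AutFacts.not_le_centralizer (quot_noncomm hL) Q hQ1 ?_ (normalizer_le_centralizer_of_card_two _ hQle)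
  rintro _ ⟨a, ha, rfl⟩ _ ⟨b, hb, rfl⟩
  rw [← map_mul, ← map_mul, hPc a ha b hb]

theorem comps {K : Type} [Group K] [Finite K] [IsSimpleGroup K] (I : Inputs) (hna : ∃ a b : K, a * b ≠ b * a) (S : Sylow 2 K)
    (hS8 : Nat.card (S : Subgroup K) = 8) (hSsq : ∀ x ∈ (S : Subgroup K), x * x = 1) (H : Subgroup K)
    (hN : normalizer ((S : Subgroup K) : Set K) ≤ H) (h5 : ¬ 5 ∣ Nat.card K) : Comps 3 ↥H := by
  classical
  have h2 : Fact (Nat.Prime 2) := ⟨Nat.prime_two⟩
  have h3 : Fact (Nat.Prime 3) := ⟨Nat.prime_three⟩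
  have hO := Lib.Cores.pPrimeCore_normal (G := ↥H) 3
  intro L hL
  have hSH : (S : Subgroup K) ≤ H := le_normalizer.trans hN
  have hScomm := AutFacts.comm_of_sq S hSsq
  let S' : Sylow 2 H := S.subtype hSH
  have hS' : (S' : Subgroup H) = (S : Subgroup K).subgroupOf H := rfl
  set π := QuotientGroup.mk' (pPrimeCore 3 ↥H) with hπ
  let T : Sylow 2 (↥H ⧸ pPrimeCore 3 ↥H) := S'.mapSurjective (QuotientGroup.mk'_surjective (pPrimeCore 3 ↥H))
  have hT : (T : Subgroup (↥H ⧸ pPrimeCore 3 ↥H)) = (S' : Subgroup H).map π := rfl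
  have hTc : ∀ a ∈ (T : Subgroup (↥H ⧸ pPrimeCore 3 ↥H)), ∀ b ∈ (T : Subgroup (↥H ⧸ pPrimeCore 3 ↥H)), a * b = b * a := by
    rintro _ ⟨a, ha, rfl⟩ _ ⟨b, hb, rfl⟩
    rw [← map_mul, ← map_mul]
    congr 1
    exact Subtype.ext (hScomm a ha b hb)
  have hTsq : ∀ a ∈ (T : Subgroup (↥H ⧸ pPrimeCore 3 ↥H)), a * a = 1 := by
    rintro _ ⟨a, ha, rfl⟩
    rw [← map_mul]
    have : a * a = 1 := Subtype.ext (hSsq a ha)
    rw [this, map_one]
  have h2L : 2 ∣ Nat.card L := by
    by_contra h
    exact SignalizersComponents.Components.quasisimple_not_isSolvable hL.2 (I.ft L h)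
  obtain ⟨P, hP⟩ := AbStruct.exists_sylow T hL
  have hPc : ∀ a ∈ (P : Subgroup L), ∀ b ∈ (P : Subgroup L), a * b = b * a := by
    intro a ha b hb
    rw [hP] at ha hb
    exact Subtype.ext (hTc a ha b hb)
  have hP4 := four_le_sylow I.ft hL.2 P hPc
  -- an involution of `T ∩ L`
  obtain ⟨τ, hτ, hτ1⟩ := (bot_or_exists_ne_one (P : Subgroup L)).resolve_left (P.ne_bot_of_dvd_card h2L)
  have hτT : (τ : ↥H ⧸ pPrimeCore 3 ↥H) ∈ (T : Subgroup (↥H ⧸ pPrimeCore 3 ↥H)) := by
    rw [hP] at hτ
    exact hτ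
  obtain ⟨t, ht, htτ⟩ := hτT
  have ht' : (t : K) ∈ (S : Subgroup K) := ht
  have ht1 : (t : K) ≠ 1 := by
    intro h
    have h1 : t = 1 := Subtype.ext h
    rw [h1, map_one] at htτ
    exact hτ1 (Subtype.ext htτ.symm)
  -- transitivity
  have htr : ∀ w : H, (w : K) ∈ (S : Subgroup K) → w ≠ 1 → ∃ n : H, (n : K) ∈ normalizer ((S : Subgroup K) : Set K) ∧
      n * t * n⁻¹ = w := by
    intro w hw hw1
    obtain ⟨n, hn, h⟩ := AutFacts.transitive hna S hSsq (by rw [hS8]; norm_num) ht' ht1 hw
      (fun h => hw1 (Subtype.ext h))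
    exact ⟨⟨n, hN hn⟩, hn, Subtype.ext h⟩
  have hTcard : Nat.card (T : Subgroup (↥H ⧸ pPrimeCore 3 ↥H)) ≤ 8 := by
    have h1 : Nat.card (S' : Subgroup H) = 8 := by
      rw [hS', Nat.card_congr (subgroupOfEquivOfLe hSH).toEquiv, hS8]
    rw [← h1, hT]
    exact Nat.le_of_dvd Nat.card_pos (card_map_dvd _ _)
  -- `N(S)` normalizes `L`
  have hnorm : ∀ n : H, (n : K) ∈ normalizer ((S : Subgroup K) : Set K) →
      L.map (MulAut.conj (π n)).toMonoidHom = L := by
    intro n hn
    by_contra hne
    have hL' : IsComponent (L.map (MulAut.conj (π n)).toMonoidHom) :=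
      SignalizersComponents.Components.isComponent_conj (π n) hL
    have hTn : (T : Subgroup (↥H ⧸ pPrimeCore 3 ↥H)).map (MulAut.conj (π n)).toMonoidHom =
        (T : Subgroup (↥H ⧸ pPrimeCore 3 ↥H)) := by
      rw [hT]
      ext y
      constructor
      · rintro ⟨_, ⟨a, ha, rfl⟩, rfl⟩
        refine ⟨n * a * n⁻¹, (mem_normalizer_iff.1 hn a).1 ha, ?_⟩
        rw [map_mul, map_mul, map_inv]
        rfl
      · rintro ⟨a, ha, rfl⟩
        refine ⟨π (n⁻¹ * a * n), ⟨n⁻¹ * a * n, ?_, rfl⟩, ?_⟩
        · have := (mem_normalizer_iff.1 (inv_mem hn) (a : K)).1 ha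
          rw [inv_inv] at this
          exact this
        · change π n * π (n⁻¹ * a * n) * (π n)⁻¹ = π a
          rw [← map_inv, ← map_mul, ← map_mul]
          congr 1
          group
    have hA : Nat.card ↥((T : Subgroup (↥H ⧸ pPrimeCore 3 ↥H)) ⊓ L) = Nat.card (P : Subgroup L) := by
      rw [← subgroupOf_map_subtype, card_map_of_injective L.subtype_injective, hP]
    have hB : Nat.card ↥((T : Subgroup (↥H ⧸ pPrimeCore 3 ↥H)) ⊓ L.map (MulAut.conj (π n)).toMonoidHom) =
        Nat.card (P : Subgroup L) := by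
      rw [← hA]
      conv_lhs => rw [← hTn]
      rw [← map_inf _ _ _ (MulAut.conj (π n)).injective]
      exact card_map_of_injective (MulAut.conj (π n)).injective
    have hdisj : Disjoint ((T : Subgroup (↥H ⧸ pPrimeCore 3 ↥H)) ⊓ L)
        ((T : Subgroup (↥H ⧸ pPrimeCore 3 ↥H)) ⊓ L.map (MulAut.conj (π n)).toMonoidHom) := by
      rw [disjoint_iff, eq_bot_iff]
      rintro y ⟨⟨hyT, hyL⟩, -, hyL'⟩
      by_contra hy1
      exact hne (ProductComp.comp_eq_of_mem T hTc hL hL' hyL hyL' (hTsq y hyT) hy1).symm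
    have hinj := mul_injective_of_disjoint hdisj
    let f : ↥((T : Subgroup (↥H ⧸ pPrimeCore 3 ↥H)) ⊓ L) ×
        ↥((T : Subgroup (↥H ⧸ pPrimeCore 3 ↥H)) ⊓ L.map (MulAut.conj (π n)).toMonoidHom) →
        (T : Subgroup (↥H ⧸ pPrimeCore 3 ↥H)) := fun g => ⟨g.1 * g.2, mul_mem g.1.2.1 g.2.2.1⟩
    have hf : Function.Injective f := fun g g' h => hinj (congrArg Subtype.val h)
    have hle := Nat.card_le_card_of_injective f hf
    rw [Nat.card_prod, hA, hB] at hle
    have : 4 * 4 ≤ Nat.card (P : Subgroup L) * Nat.card (P : Subgroup L) := Nat.mul_le_mul hP4 hP4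
    omega
  -- `T ≤ L`
  have hall : ∀ w : H, (w : K) ∈ (S : Subgroup K) → π w ∈ L := by
    intro w hw
    by_cases hw1 : w = 1
    · rw [hw1, map_one]
      exact one_mem L
    obtain ⟨n, hn, rfl⟩ := htr w hw hw1
    rw [← hnorm n hn]
    refine ⟨τ, τ.2, ?_⟩
    change π n * τ * (π n)⁻¹ = _
    rw [← htτ, map_mul, map_mul, map_inv]
  have hTL : (T : Subgroup (↥H ⧸ pPrimeCore 3 ↥H)) ≤ L := by
    rintro _ ⟨w, hw, rfl⟩
    exact hall w hw
  -- `π` is injective on `S'`
  have hSinj : ∀ w : H, (w : K) ∈ (S : Subgroup K) → π w = 1 → w = 1 := by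
    intro w hw hπw
    by_contra hw1
    obtain ⟨n, hn, rfl⟩ := htr w hw hw1
    apply hτ1
    apply Subtype.ext
    rw [← htτ]
    rw [map_mul, map_mul, map_inv, mul_inv_eq_one] at hπw
    exact mul_eq_left.1 hπw
  have hT8 : Nat.card (T : Subgroup (↥H ⧸ pPrimeCore 3 ↥H)) = 8 := by
    let g : ↥(S : Subgroup K) → ↥(T : Subgroup (↥H ⧸ pPrimeCore 3 ↥H)) := fun s => ⟨π ⟨s, hSH s.2⟩, ⟨⟨s, hSH s.2⟩, s.2, rfl⟩⟩
    have hg : Function.Injective g := by
      intro a b hab
      have h1 : π (⟨a, hSH a.2⟩ : H) = π ⟨b, hSH b.2⟩ := congrArg Subtype.val hab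
      rw [← mul_inv_eq_one, ← map_inv, ← map_mul] at h1
      have h4 := hSinj _ (mul_mem a.2 (inv_mem b.2)) h1
      rw [mul_inv_eq_one] at h4
      exact Subtype.ext (congrArg (fun y : H => (y : K)) h4)
    have := Nat.card_le_card_of_injective g hg
    omega
  have hP8 : Nat.card (P : Subgroup L) = 8 := by
    rw [hP, Nat.card_congr (subgroupOfEquivOfLe hTL).toEquiv, hT8]
  -- the simple quotient
  have hZ3 : IsPGroup 3 ↥(center ↥L) := CpAut.isPGroup_center_comp Nat.prime_three L hL
  let Q : Sylow 2 (↥L ⧸ center ↥L) := P.mapSurjective (QuotientGroup.mk'_surjective (center ↥L))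
  have hQ : (Q : Subgroup (↥L ⧸ center ↥L)) = (P : Subgroup L).map (QuotientGroup.mk' (center ↥L)) := rfl
  have hQ8 : Nat.card (Q : Subgroup (↥L ⧸ center ↥L)) = 8 := by
    rw [← hP8, hQ]
    have h1 : Function.Injective ((QuotientGroup.mk' (center ↥L)).comp (P : Subgroup L).subtype) := by
      rw [← MonoidHom.ker_eq_bot_iff, eq_bot_iff]
      intro y hy
      have hyc : (y : ↥L) ∈ center ↥L := by
        have : QuotientGroup.mk' (center ↥L) (y : ↥L) = 1 := hy
        rwa [← MonoidHom.mem_ker, QuotientGroup.ker_mk'] at this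
      have hco := IsPGroup.disjoint_of_ne 2 3 (by norm_num) (P : Subgroup L) (center ↥L) P.2 hZ3
      have : (y : ↥L) ∈ (⊥ : Subgroup ↥L) := hco.le_bot ⟨y.2, hyc⟩
      exact Subtype.ext this
    have h4 := Nat.card_congr (MonoidHom.ofInjective h1).toEquiv
    rw [h4, MonoidHom.range_comp, range_subtype]
  have hQc : ∀ a ∈ (Q : Subgroup (↥L ⧸ center ↥L)), ∀ b ∈ (Q : Subgroup (↥L ⧸ center ↥L)), a * b = b * a := by
    rintro _ ⟨a, ha, rfl⟩ _ ⟨b, hb, rfl⟩
    rw [← map_mul, ← map_mul, hPc a ha b hb]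
  have hsimp := hL.2.2
  have hnc := quot_noncomm hL.2
  have hW := I.walter (↥L ⧸ center ↥L) hsimp hnc Q hQc
  have hdvd : Nat.card (↥L ⧸ center ↥L) ∣ Nat.card K :=
    (card_quotient_dvd_card _).trans ((card_subgroup_dvd_card L).trans
      ((card_quotient_dvd_card _).trans (card_subgroup_dvd_card H)))
  have h5L : ¬ 5 ∣ Nat.card (↥L ⧸ center ↥L) := fun h => h5 (h.trans hdvd)
  have hchev : IsChevSimple 3 (↥L ⧸ center ↥L) := by
    rcases TypeSylow.of_card_eight hW Q hQ8 with h | h
    · exact Or.inr (Or.inr ⟨rfl, h⟩)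
    · rcases I.jr _ hnc h with h1 | ⟨⟨e⟩⟩
      · exact Or.inl (Or.inr (Or.inr (Or.inr (Or.inr (Or.inr (Or.inr (Or.inr (Or.inr (Or.inr (Or.inr ⟨rfl, h1⟩))))))))))
      · exfalso
        apply h5L
        rw [Nat.card_congr e.toEquiv]
        exact I.j1
  refine ⟨hL.2, hZ3, Or.inl hchev, ?_⟩
  rintro (⟨h, -⟩ | ⟨-, -, h | h⟩)
  · exact absurd h (by norm_num)
  · obtain ⟨e⟩ := h
    apply h5L
    rw [Nat.card_congr e.toEquiv, nat_card_alternatingGroup, Nat.card_eq_fintype_card, Fintype.card_fin]
    decide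
  · obtain ⟨e⟩ := h
    apply h5L
    rw [Nat.card_congr e.toEquiv]
    exact I.on

end Main

end Cfsg.Agent.CpAutRee.Abs
end

-- part: CpAutRee/Ree
section
set_option linter.all false
open scoped Cfsg.Agent.FastGrp

/-!
# S1814: the small Ree groups, `p = 3`

`ree` : every automorphism of order 3 of `²G₂(3^(2m+1))` has `C_3`-components only.
-/

set_option autoImplicit false

namespace Cfsg.Agent.CpAutRee.Ree

open Subgroup Cfsg
open Cfsg.Agent.Walter Cfsg.Agent.Walter.Types
open Cfsg.Agent.LThree (Comps)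
open Cfsg.Agent.CpAutRee.Abs
open scoped Pointwise

/-- centralizers of conjugate elements are isomorphic -/
theorem cent_conj {G : Type*} [Group G] (a g : G) :
    Nonempty (↥(centralizer ({a} : Set G)) ≃* ↥(centralizer ({g * a * g⁻¹} : Set G))) := by
  refine ⟨((centralizer ({a} : Set G)).equivMapOfInjective (MulAut.conj g).toMonoidHom (MulAut.conj g).injective).trans
    (MulEquiv.subgroupCongr ?_)⟩
  ext y
  rw [mem_centralizer_singleton_iff]
  constructor
  · rintro ⟨b, hb, rfl⟩
    have hb' := mem_centralizer_singleton_iff.1 hb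
    change g * b * g⁻¹ * (g * a * g⁻¹) = g * a * g⁻¹ * (g * b * g⁻¹)
    calc g * b * g⁻¹ * (g * a * g⁻¹) = g * (b * a) * g⁻¹ := by group
      _ = g * (a * b) * g⁻¹ := by rw [hb']
      _ = _ := by group
  · intro hy
    refine ⟨g⁻¹ * y * g, ?_, ?_⟩
    · rw [SetLike.mem_coe, mem_centralizer_singleton_iff]
      calc g⁻¹ * y * g * a = g⁻¹ * (y * (g * a * g⁻¹)) * g := by group
        _ = g⁻¹ * (g * a * g⁻¹ * y) * g := by rw [hy]
        _ = a * (g⁻¹ * y * g) := by group
    · change g * (g⁻¹ * y * g) * g⁻¹ = y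
      group

/-- all involutions are conjugate -/
theorem exists_conj {G : Type*} [Group G] [Finite G] [IsSimpleGroup G] (hna : ∃ a b : G, a * b ≠ b * a)
    (hS : ∀ S : Sylow 2 G, Nat.card (S : Subgroup G) = 8 ∧ ∀ x ∈ (S : Subgroup G), x * x = 1) {a t : G}
    (ha : orderOf a = 2) (ht : orderOf t = 2) : ∃ g : G, g * a * g⁻¹ = t := by
  have h2 : Fact (Nat.Prime 2) := ⟨Nat.prime_two⟩
  have key : ∀ {b : G}, orderOf b = 2 → ∃ S : Sylow 2 G, b ∈ (S : Subgroup G) := by
    intro b hb
    have h1 : IsPGroup 2 (zpowers b) := IsPGroup.of_card (n := 1) (by rw [Nat.card_zpowers, hb, pow_one])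
    obtain ⟨S, hS⟩ := h1.exists_le_sylow
    exact ⟨S, hS (mem_zpowers b)⟩
  have hne : ∀ {b : G}, orderOf b = 2 → b ≠ 1 := by
    rintro b hb rfl
    rw [orderOf_one] at hb
    omega
  obtain ⟨S, haS⟩ := key ha
  obtain ⟨R, htR⟩ := key ht
  obtain ⟨g, rfl⟩ := MulAction.exists_smul_eq G R S
  -- `g t g⁻¹ ∈ S`
  have h1 : g * t * g⁻¹ ∈ ((g • R : Sylow 2 G) : Subgroup G) := by
    change g * t * g⁻¹ ∈ MulAut.conj g • (R : Subgroup G)
    exact smul_mem_pointwise_smul t (MulAut.conj g) _ htR
  have h3 : g * t * g⁻¹ ≠ 1 := by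
    intro h
    rw [mul_inv_eq_one] at h
    exact hne ht (mul_eq_left.1 h)
  obtain ⟨n, -, hn⟩ := AutFacts.transitive hna (g • R) (hS _).2 (by rw [(hS _).1]; norm_num) haS (hne ha) h1 h3
  refine ⟨g⁻¹ * n, ?_⟩
  calc g⁻¹ * n * a * (g⁻¹ * n)⁻¹ = g⁻¹ * (n * a * n⁻¹) * g := by group
    _ = t := by rw [hn]; group

theorem pow_mod_eight (m : ℕ) : 3 ^ (2 * m + 1) % 8 = 3 := by
  induction m with
  | zero => norm_num
  | succ m ih =>
    rw [show 2 * (m + 1) + 1 = (2 * m + 1) + 2 by ring, pow_add, Nat.mul_mod, ih]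
    norm_num

theorem pow_mod_five (m : ℕ) : 3 ^ (2 * m + 1) % 5 = 3 ∨ 3 ^ (2 * m + 1) % 5 = 2 := by
  induction m with
  | zero => left; norm_num
  | succ m ih =>
    rw [show 2 * (m + 1) + 1 = (2 * m + 1) + 2 by ring, pow_add, Nat.mul_mod]
    rcases ih with h | h
    · right; rw [h]; norm_num
    · left; rw [h]; norm_num

theorem not_five_dvd {q : ℕ} (key : q % 5 = 3 ∨ q % 5 = 2) : ¬ 5 ∣ q ^ 3 * (q - 1) * (q ^ 3 + 1) := by
  have h5 : Nat.Prime 5 := by norm_num
  have h3 : q ^ 3 % 5 = 2 ∨ q ^ 3 % 5 = 3 := by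
    rcases key with h | h
    · left; rw [Nat.pow_mod, h]
    · right; rw [Nat.pow_mod, h]
  intro h
  rcases h5.dvd_mul.1 h with h | h
  · rcases h5.dvd_mul.1 h with h | h
    · omega
    · omega
  · omega

theorem main (I : Inputs) {K : Type} [Field K] [Fintype K] {m : ℕ} (hm : 1 ≤ m)
    (hK : Fintype.card K = 3 ^ (2 * m + 1)) : CpAut.AutC 3 ↥(Cfsg.Lie.twistedG2 K (3 ^ m)) := by
  classical
  have h2 : Fact (Nat.Prime 2) := ⟨Nat.prime_two⟩
  have h3 : Fact (Nat.Prime 3) := ⟨Nat.prime_three⟩
  obtain ⟨hsimp, hc⟩ := Cfsg.Agent.S1073.result hm hK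
  have hna : ∃ a b : ↥(Cfsg.Lie.twistedG2 K (3 ^ m)), a * b ≠ b * a := by
    by_contra hcon
    push Not at hcon
    exact hc ⟨⟨hcon⟩⟩
  obtain ⟨a, haH, ha1, ha2⟩ := Cfsg.Agent.S1157.exists_involution hK
  obtain ⟨⟨e⟩, hS⟩ := Cfsg.Agent.S1152.result hK a haH ha1 ha2
  have hao : orderOf a = 2 := orderOf_eq_prime (by rw [sq, ha2]) ha1
  have hq8 := pow_mod_eight m
  have hq27 : 27 ≤ 3 ^ (2 * m + 1) := by
    calc 27 = 3 ^ 3 := by norm_num
      _ ≤ 3 ^ (2 * m + 1) := Nat.pow_le_pow_right (by norm_num) (by omega)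
  have hJ : IsJR ↥(Cfsg.Lie.twistedG2 K (3 ^ m)) := by
    refine ⟨⟨default, hS default⟩, K, inferInstance, inferInstance, Or.inl (by rw [hK, hq8]), by rw [hK]; omega, ?_⟩
    intro t ht
    obtain ⟨g, rfl⟩ := exists_conj hna hS hao ht
    obtain ⟨f⟩ := cent_conj a g
    exact ⟨f.symm.trans e⟩
  have hB : AutFacts.Bender ↥(Cfsg.Lie.twistedG2 K (3 ^ m)) := I.bender _ hsimp hna
  have h5 : ¬ 5 ∣ Nat.card ↥(Cfsg.Lie.twistedG2 K (3 ^ m)) := by
    rw [Cfsg.Agent.LieRecognition.ReeFinal.card hK]
    exact not_five_dvd (pow_mod_five m)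
  intro x hx
  have hx3 : x ^ 3 = 1 := orderOf_dvd_iff_pow_eq_one.1 (dvd_of_eq hx)
  by_cases hodd : 2 ∣ Nat.card ↥(fixedSubgroup x)
  · obtain ⟨s, hs⟩ := exists_prime_orderOf_dvd_card' 2 hodd
    have hs2 : orderOf (s : ↥(Cfsg.Lie.twistedG2 K (3 ^ m))) = 2 := by rw [Subgroup.orderOf_coe, hs]
    rcases dich hJ hB hna x hx3 hs2 s.2 with ⟨g, rfl⟩ | h8
    · rw [CpAut.orderOf_conj (CpAut.center_eq_bot_of_simple hc)] at hx
      rw [CpAut.fixedSubgroup_conj]
      exact comps_centralizer_of_ti (fun P Q hPQ => Cfsg.Agent.S1155.result hm hK P Q hPQ) hx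
    · obtain ⟨S, hSle⟩ := exists_sylow_le h8 (fun S => (hS S).1)
      obtain ⟨f1, f2, f3⟩ := PSLFacts.IsJR.facts hJ S
      refine comps I hna S f2 f1 (fixedSubgroup x) ?_ h5
      intro n hn
      exact AutFacts.fix_normalizer S f3 x (orderOf_odd_of_pow hx3) (fun s hs => hSle hs) hn
  · exact LThree.Comps.of_solvable (I.ft _ hodd)

/-- **The row `²G₂(q)`, `p = 3`, of S1814.** -/
theorem ree (I : Inputs) {X : Type} [Group X] (h : Cfsg.Lie.IsoRee X) : CpAut.AutC 3 X := by
  obtain ⟨K, i1, i2, m, hm, hK, ⟨e⟩⟩ := h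
  exact (main I hm hK).congr e.symm

end Cfsg.Agent.CpAutRee.Ree
end
end
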